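import Groth.Agent.Lib.Isogeny14.Kernel
import Groth.Agent.Lib.TorusIsog19.Basic
import Groth.Agent.Lib.SpecialExt15.Basic
import Groth.Agent.Lib.SecDiv18.Peel
import Groth.Agent.Lib.AbRigid.Maximal

/-!
# Eventual divisibility in commutative groups of finite type; quasi-compactness of quotient maps
-/

set_option autoImplicit false
set_option linter.style.haveILetI false
set_option backward.isDefEq.respectTransparency.types false

universe u

open CategoryTheory Limits MonoidalCategory CartesianMonoidalCategory MonObj AlgebraicGeometry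

namespace Groth.Agent.DivSub15

/-- A flat surjective quasi-compact morphism has trivial kernel. -/
theorem ker_eq_bot_of_cover {X Y : Scheme.{u}} (f : X ⟶ Y) [Flat f] [Surjective f] [QuasiCompact f] : f.ker = ⊥ := by
  haveI : StrongEpi (f.toImage ≫ f.imageι) := by rw [Scheme.Hom.toImage_imageι]; infer_instance
  haveI : StrongEpi f.imageι := strongEpi_of_strongEpi f.toImage f.imageι
  haveI : IsIso f.ker.subschemeι := isIso_of_mono_of_strongEpi f.imageι
  exact (Scheme.isIso_subschemeι_iff_eq_bot _).1 inferInstance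

variable {k : Type u} [Field k]

/-- In a commutative group of finite type the images of the powers `n ^ i` stabilise. -/
theorem exists_eventually_divisible (H : Over (Spec (CommRingCat.of k))) [GrpObj H] [IsCommMonObj H]
    [LocallyOfFiniteType H.hom] [QuasiCompact H.hom] (n : ℕ) :
    ∃ c : ℕ, ∀ (j : ℕ) (T : Over (Spec (CommRingCat.of k))) (h : T ⟶ H),
      ∃ (T' : Over (Spec (CommRingCat.of k))) (d : T' ⟶ T) (h' : T' ⟶ H),
        Flat d.left ∧ Surjective d.left ∧ QuasiCompact d.left ∧ h' ^ n ^ (c + j) = (d ≫ h) ^ n ^ c := by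
  haveI : IsSeparated H.hom := AbRigid.isSeparated_of_grpObj H
  haveI : IsLocallyNoetherian H.left := LocallyOfFiniteType.isLocallyNoetherian H.hom
  haveI : CompactSpace H.left := QuasiCompact.compactSpace_of_compactSpace H.hom
  haveI : IsNoetherian H.left := {}
  let P : ℕ → (H ⟶ H) := fun i => (𝟙 H : H ⟶ H) ^ n ^ i
  haveI hP : ∀ i, QuasiCompact (P i).left := fun i => by
    haveI : QuasiCompact ((P i).left ≫ H.hom) := by rw [Over.w (P i)]; infer_instance
    exact QuasiCompact.of_comp (P i).left H.hom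
  have hfac : ∀ i, ∃ (C : Over (Spec (CommRingCat.of k))) (p : H ⟶ C) (e : C ⟶ H), p ≫ e = P i ∧
      Flat p.left ∧ Surjective p.left ∧ QuasiCompact p.left ∧ IsClosedImmersion e.left := by
    intro i
    haveI := TorusIsog19.isMonHom_pow H (n ^ i)
    obtain ⟨C, _, p, e, -, -, hpe, hp1, hp2, -, he⟩ := Groth.Agent.S3034.result k H H (P i) (by
      let f : pullback (P i).left (η[H] : _ ⟶ H).left ⟶ Spec (CommRingCat.of k) := pullback.snd _ _
      exact (inferInstance : Flat f))
    haveI : QuasiCompact (p.left ≫ e.left) := by rw [← Over.comp_left, hpe]; exact hP i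
    exact ⟨C, p, e, hpe, hp1, hp2, QuasiCompact.of_comp p.left e.left, he⟩
  choose C p e hpe hp1 hp2 hp3 he using hfac
  have hker : ∀ i, (e i).left.ker = (P i).left.ker := fun i => by
    haveI := hp1 i; haveI := hp2 i; haveI := hp3 i
    rw [← hpe i, Over.comp_left]
    refine le_antisymm (Scheme.Hom.le_ker_comp _ _) ?_
    rw [Scheme.Hom.ker_comp]
    have : (p i).left.ker = ⊥ := ker_eq_bot_of_cover (p i).left
    rw [this, Scheme.IdealSheafData.map_bot]
  have hmono : Monotone fun i => (P i).left.ker := monotone_nat_of_le_succ fun i => by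
    have : P (i + 1) = P 1 ≫ P i := by
      simp only [P]
      rw [TorusIsog19.comp_id_pow, ← pow_mul, pow_one, pow_succ']
    show (P i).left.ker ≤ (P (i + 1)).left.ker
    rw [this, Over.comp_left]
    exact Scheme.Hom.le_ker_comp _ _
  haveI := SecDiv.wellFoundedGT (X := H.left)
  obtain ⟨c, hc⟩ := wellFoundedGT_iff_monotone_chain_condition.1 inferInstance ⟨_, hmono⟩
  refine ⟨c, fun j T h => ?_⟩
  have hle : (e (c + j)).left.ker ≤ (e c).left.ker := by
    rw [hker, hker]; exact (hc (c + j) (Nat.le_add_right c j)).ge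
  haveI := he (c + j)
  let l : C c ⟶ C (c + j) := Over.homMk (IsClosedImmersion.lift (e (c + j)).left (e c).left hle) (by
    rw [← Over.w (e (c + j)), IsClosedImmersion.lift_fac_assoc, Over.w (e c)])
  have hl : l ≫ e (c + j) = e c := Over.OverMorphism.ext (IsClosedImmersion.lift_fac _ _ _)
  haveI := hp1 (c + j); haveI := hp2 (c + j); haveI := hp3 (c + j)
  obtain ⟨T', d, h', h1, h2, h3, hh'⟩ := SpecialExt15.exists_cover_lift (p (c + j)) (h ≫ p c ≫ l)
  refine ⟨T', d, h', h1, h2, h3, ?_⟩
  rw [← TorusIsog19.comp_id_pow h', ← TorusIsog19.comp_id_pow (d ≫ h)]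
  show h' ≫ P (c + j) = (d ≫ h) ≫ P c
  rw [← hpe (c + j), reassoc_of% hh', hl, hpe c]
  simp

/-- An open surjection with quasi-compact kernel pair is quasi-compact. -/
theorem quasiCompact_of_kernelPair {P A B : Scheme.{u}} (f : A ⟶ B) [Surjective f] (hf : IsOpenMap f)
    {p₁ p₂ : P ⟶ A} (hP : IsPullback p₁ p₂ f f) [QuasiCompact p₂] : QuasiCompact f := by
  refine ⟨fun V hV hVc => ?_⟩
  obtain ⟨U, hUo, hUc, hUV⟩ : ∃ U : Set A, IsOpen U ∧ IsCompact U ∧ f '' U = V := by
    choose W hW hxW hWV using fun x : (f ⁻¹' V : Set A) =>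
      exists_isAffineOpen_mem_and_subset (X := A) (x := x.1) (U := ⟨f ⁻¹' V, hV.preimage f.continuous⟩) x.2
    obtain ⟨t, ht⟩ := hVc.elim_finite_subcover (fun x => f '' (W x : Set A)) (fun x => hf _ (W x).isOpen)
      (fun v hv => by
        obtain ⟨a, rfl⟩ := f.surjective v
        exact Set.mem_iUnion.2 ⟨⟨a, hv⟩, a, hxW ⟨a, hv⟩, rfl⟩)
    refine ⟨⋃ x ∈ t, (W x : Set A), isOpen_biUnion fun x _ => (W x).isOpen,
      t.isCompact_biUnion fun x _ => (hW x).isCompact, Set.Subset.antisymm ?_ ?_⟩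
    · rintro _ ⟨a, ha, rfl⟩
      obtain ⟨x, -, hax⟩ := Set.mem_iUnion₂.1 ha
      exact hWV x hax
    · intro v hv
      obtain ⟨x, hx, a, ha, rfl⟩ := Set.mem_iUnion₂.1 (ht hv)
      exact ⟨a, Set.mem_biUnion hx ha, rfl⟩
  have : f ⁻¹' V = p₁ '' (p₂ ⁻¹' U) := by
    refine Set.Subset.antisymm (fun a ha => ?_) ?_
    · obtain ⟨u, hu, hfu⟩ := hUV.ge ha
      obtain ⟨z, hz₁, hz₂⟩ := Scheme.Pullback.exists_preimage_pullback (f := f) (g := f) a u hfu.symm
      exact ⟨hP.isoPullback.inv z,
        by show p₂ _ ∈ U; rw [← Scheme.Hom.comp_apply, hP.isoPullback_inv_snd, hz₂]; exact hu,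
        by rw [← Scheme.Hom.comp_apply, hP.isoPullback_inv_fst, hz₁]⟩
    · rintro _ ⟨z, hz, rfl⟩
      show f (p₁ z) ∈ V
      rw [← Scheme.Hom.comp_apply, hP.w, Scheme.Hom.comp_apply]
      exact hUV.le ⟨_, hz, rfl⟩
  rw [this]
  exact (QuasiCompact.isCompact_preimage _ hUo hUc).image p₁.continuous

end Groth.Agent.DivSub15
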